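import Groth.Agent.CohDer1.LinRedExt.Descent
import Groth.Agent.RedQuotLib.Basic
import Groth.Agent.Misc15.AffinePoints
import Groth.Agent.S16717
import Mathlib.AlgebraicGeometry.Morphisms.Flat
import Mathlib.RingTheory.RingHom.FaithfullyFlat

/-!
# Subgroups with affine quotient
-/

set_option autoImplicit false

noncomputable section

open CategoryTheory MonoidalCategory CartesianMonoidalCategory AlgebraicGeometry
open scoped MonObj GrpObj
open TensorProduct HopfRep WithConv
open Groth.Agent.HopfLib

universe u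

namespace Groth.Agent.CohDer1.LinRedExt

theorem pt_mul_eq {k : Type u} [Field k] {A S : Type u} [CommRing A] [Bialgebra k A] [CommRing S] [Algebra k S]
    (f g : A →ₐ[k] S) : CoactBr.pt f * CoactBr.pt g = CoactBr.pt (toConv f * toConv g).ofConv := by
  rw [CoactBr.pt_mul_pt]
  congr 1
  refine AlgHom.ext fun a => ?_
  rw [AlgHom.convMul_apply]
  rfl

variable {k : Type u} [Field k] {G K : Type u} [CommRing G] [HopfAlgebra k G] [CommRing K] [HopfAlgebra k K]
  [Algebra.FiniteType k G] [Algebra.FiniteType k K]

/-- A subgroup with affine quotient of a linearly reductive group is linearly reductive. -/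
theorem isLinearlyReductive_of_isAffine (hG : IsLinearlyReductive k G) (ψ : G →ₐc[k] K)
    (hψ : Function.Surjective ψ) (Q : Over (Spec (CommRingCat.of k))) (q : CoactBr.sp k G ⟶ Q)
    (hq : RedSub.IsQuotient (CoactBr.pt (ψ : G →ₐ[k] K)) q) [IsAffine Q.left] : IsLinearlyReductive k K := by
  obtain ⟨C, _, _, ⟨e⟩⟩ := Misc15.AffinePoints.exists_sp Q
  obtain ⟨θ, hθ⟩ := Misc15.AffinePoints.pt_surjective (q ≫ e.inv)
  letI : Algebra C G := θ.toRingHom.toAlgebra
  haveI : IsScalarTower k C G := .of_algebraMap_eq fun c => (θ.commutes c).symm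
  haveI : Module.FaithfullyFlat C G := by
    have h1 : Flat (CoactBr.pt θ).left := by
      rw [hθ, Over.comp_left]
      haveI := hq.2.1
      infer_instance
    have h2 : Surjective (CoactBr.pt θ).left := by
      rw [hθ, Over.comp_left]
      haveI := hq.1
      infer_instance
    rw [CoactBr.pt_left] at h1 h2
    have hf : θ.toRingHom.FaithfullyFlat := RingHom.FaithfullyFlat.iff_flat_and_comap_surjective.2
      ⟨(HasRingHomProperty.Spec_iff (P := @Flat)).1 h1, h2.surj⟩
    exact hf
  have hcomp : ∀ {S : Type u} [CommRing S] [Algebra k S] (f g : G →ₐ[k] S), f.comp θ = g.comp θ →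
      CoactBr.pt f ≫ q = CoactBr.pt g ≫ q := by
    intro S _ _ f g h
    rw [← cancel_mono e.inv, Category.assoc, Category.assoc, ← hθ, ← CoactBr.pt_comp, ← CoactBr.pt_comp, h]
  have hT : IsTorsor ψ C := by
    refine ⟨hψ, fun c => ?_, fun x hx => ?_⟩
    · let a : G →ₐ[k] G ⊗[k] K := Algebra.TensorProduct.includeLeft
      let h : K →ₐ[k] G ⊗[k] K := Algebra.TensorProduct.includeRight
      have hw := RedQuotLib.mul_comp_eq hq (CoactBr.pt a) (CoactBr.pt h)
      rw [← CoactBr.pt_comp, pt_mul_eq, show (toConv a * toConv (h.comp (ψ : G →ₐ[k] K))).ofConv = shift ψ from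
        AlgHom.ext fun x => by
          rw [AlgHom.convMul_apply]
          show _ = Algebra.TensorProduct.map (AlgHom.id k G) (ψ : G →ₐ[k] K) (CoalgebraStruct.comul (R := k) x)
          generalize CoalgebraStruct.comul (R := k) x = t
          induction t using TensorProduct.induction_on with
          | zero => simp
          | add p p' hp hp' => simp only [map_add, hp, hp']
          | tmul p p' => simp [a, h]] at hw
      have hw' := congrArg (· ≫ e.inv) hw
      simp only [Category.assoc, ← hθ, ← CoactBr.pt_comp] at hw'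
      exact DFunLike.congr_fun (CoactBr.pt_injective hw') c
    · let iL : G →ₐ[k] G ⊗[C] G := Algebra.TensorProduct.includeLeft
      let iR : G →ₐ[k] G ⊗[C] G := (Algebra.TensorProduct.includeRight : G →ₐ[C] G ⊗[C] G).restrictScalars k
      have hLR : iR.comp θ = iL.comp θ := AlgHom.ext fun c => by
        show (1 : G) ⊗ₜ[C] algebraMap C G c = algebraMap C G c ⊗ₜ[C] (1 : G)
        rw [Algebra.algebraMap_eq_smul_one, TensorProduct.tmul_smul, TensorProduct.smul_tmul']
      obtain ⟨h, hh⟩ := (RedQuotLib.comp_eq_iff hq _ _).1 (hcomp iR iL hLR)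
      obtain ⟨τ, rfl⟩ := Misc15.AffinePoints.pt_surjective h
      rw [← CoactBr.pt_comp, pt_mul_eq] at hh
      have h1 : toConv iL = toConv iR * toConv (τ.comp (ψ : G →ₐ[k] K)) :=
        WithConv.ext (CoactBr.pt_injective hh)
      have h2 : toConv (τ.comp (ψ : G →ₐ[k] K)) = toConv (transl (k := k) C) := by
        rw [transl, toConv_ofConv, show toConv (Algebra.TensorProduct.includeLeft : G →ₐ[k] G ⊗[C] G) =
          toConv iR * toConv (τ.comp (ψ : G →ₐ[k] K)) from h1, ← mul_assoc, pinv_mul, one_mul]
      have h3 : transl (k := k) C x = τ (ψ x) :=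
        (congrArg (fun f : WithConv (G →ₐ[k] G ⊗[C] G) => f.ofConv x) h2).symm
      rw [h3]
      rw [hx, map_zero]
  obtain ⟨α, hα, h1⟩ := exists_integral hG
  refine (Groth.Agent.S16717.result k K inferInstance).2 fun V W _ _ _ _ _ _ f hf hsurj w hw => ?_
  exact exists_fixed_lift hT hα h1 hf.symm hsurj hw

end Groth.Agent.CohDer1.LinRedExt
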