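import Groth.Agent.CohDer1.LinRedExt.AffineQuot
import Groth.Agent.S12924
import Groth.Agent.HopfLib.ComodSubcoalg

/-!
# Quotients by linearly reductive subgroups are affine
-/

set_option autoImplicit false

noncomputable section

open CategoryTheory MonoidalCategory CartesianMonoidalCategory AlgebraicGeometry
open scoped MonObj GrpObj
open TensorProduct HopfRep WithConv
open Groth.Agent.HopfLib

universe u

namespace Groth.Agent.CohDer1.LinRedExt

variable {k : Type u} [Field k] {G K : Type u} [CommRing G] [HopfAlgebra k G] [CommRing K] [HopfAlgebra k K]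

theorem shift_eq_mul (ψ : G →ₐc[k] K) :
    (toConv (Algebra.TensorProduct.includeLeft : G →ₐ[k] G ⊗[k] K) *
      toConv ((Algebra.TensorProduct.includeRight : K →ₐ[k] G ⊗[k] K).comp (ψ : G →ₐ[k] K))).ofConv = shift ψ := by
  refine AlgHom.ext fun x => ?_
  rw [AlgHom.convMul_apply]
  show _ = Algebra.TensorProduct.map (AlgHom.id k G) (ψ : G →ₐ[k] K) (CoalgebraStruct.comul (R := k) x)
  generalize CoalgebraStruct.comul (R := k) x = t
  induction t using TensorProduct.induction_on with
  | zero => simp
  | add p p' hp hp' => simp only [map_add, hp, hp']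
  | tmul p p' => simp

/-- The quotient by a linearly reductive subgroup is affine. -/
theorem isAffine_of_isLinearlyReductive (hK : IsLinearlyReductive k K) (ψ : G →ₐc[k] K)
    (Q : Over (Spec (CommRingCat.of k))) (q : CoactBr.sp k G ⟶ Q)
    (hq : RedSub.IsQuotient (CoactBr.pt (ψ : G →ₐ[k] K)) q) : IsAffine Q.left := by
  letI c : Comod k K G := comodMap (ψ : G →ₗc[k] K) (inferInstance : Comod k G G)
  have hc : ∀ x : G, Comod.coact (k := k) (A := K) x = shift ψ x := fun x => by
    show (ψ : G →ₗc[k] K).toLinearMap.lTensor G (CoalgebraStruct.comul (R := k) x) =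
      Algebra.TensorProduct.map (AlgHom.id k G) (ψ : G →ₐ[k] K) (CoalgebraStruct.comul (R := k) x)
    generalize CoalgebraStruct.comul (R := k) x = t
    induction t using TensorProduct.induction_on with
    | zero => simp
    | add p p' hp hp' => simp only [map_add, hp, hp']
    | tmul p p' => simp
  haveI : GLin.IsCoactAlg k K G := ⟨by rw [hc, map_one], fun f g => by rw [hc, hc, hc, map_mul]⟩
  obtain ⟨α, hα, h1⟩ := exists_integral hK
  have htame := exists_totalIntegral_of_integral G hα h1
  let C := GLin.invariants k K G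
  let prj := Spec.map (CommRingCat.ofHom (algebraMap C G))
  have hinv : CoactBr.pt (shift ψ) ≫ q =
      CoactBr.pt (Algebra.TensorProduct.includeLeft : G →ₐ[k] G ⊗[k] K) ≫ q := by
    have h := RedQuotLib.mul_comp_eq hq (CoactBr.pt (Algebra.TensorProduct.includeLeft : G →ₐ[k] G ⊗[k] K))
      (CoactBr.pt (Algebra.TensorProduct.includeRight : K →ₐ[k] G ⊗[k] K))
    rwa [← CoactBr.pt_comp, pt_mul_eq, shift_eq_mul] at h
  have hco : (GLin.coactAlgHom k K G).toRingHom = (shift ψ).toRingHom := RingHom.ext hc
  have hψq : Spec.map (CommRingCat.ofHom (GLin.coactAlgHom k K G).toRingHom) ≫ q.left =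
      Spec.map (CommRingCat.ofHom (Algebra.TensorProduct.includeLeftRingHom : G →+* G ⊗[k] K)) ≫ q.left := by
    rw [hco]
    exact congrArg CommaMorphism.left hinv
  obtain ⟨χ, hχ, -⟩ := Groth.Agent.S12924.result k K G htame Q.left q.left hψq
  -- the invariant map to the spectrum of the invariants descends
  let θ : C →ₐ[k] G := C.val
  have hf : ∀ {W : Over (Spec (CommRingCat.of k))} (a : W ⟶ CoactBr.sp k G) (h : W ⟶ CoactBr.sp k K),
      (a * (h ≫ CoactBr.pt (ψ : G →ₐ[k] K))) ≫ CoactBr.pt θ = a ≫ CoactBr.pt θ := by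
    intro W a h
    haveI := Misc15.AffinePoints.isIso_Q (R := k) G K
    let P := Misc15.AffinePoints.Q (R := k) G K
    obtain ⟨t, ht⟩ : ∃ t : W ⟶ CoactBr.sp k (G ⊗[k] K), t ≫ P = CartesianMonoidalCategory.lift a h :=
      ⟨CartesianMonoidalCategory.lift a h ≫ inv P, by rw [Category.assoc, IsIso.inv_hom_id, Category.comp_id]⟩
    have ha : a = t ≫ CoactBr.pt (Algebra.TensorProduct.includeLeft : G →ₐ[k] G ⊗[k] K) := by
      have h' := congrArg (· ≫ CartesianMonoidalCategory.fst _ _) ht
      simp only [Category.assoc, P, Misc15.AffinePoints.Q, lift_fst] at h'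
      exact h'.symm
    have hh : h = t ≫ CoactBr.pt (Algebra.TensorProduct.includeRight : K →ₐ[k] G ⊗[k] K) := by
      have h' := congrArg (· ≫ CartesianMonoidalCategory.snd _ _) ht
      simp only [Category.assoc, P, Misc15.AffinePoints.Q, lift_snd] at h'
      exact h'.symm
    subst ha hh
    rw [Category.assoc, ← MonObj.comp_mul, ← CoactBr.pt_comp, pt_mul_eq, shift_eq_mul, Category.assoc,
      Category.assoc, ← CoactBr.pt_comp, ← CoactBr.pt_comp]
    congr 2
    refine AlgHom.ext fun x => ?_
    exact (hc (x : G)).symm.trans x.2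
  obtain ⟨g, hg⟩ := RedQuotLib.exists_desc hq (CoactBr.pt θ) hf
  have hg' : q.left ≫ g.left = prj := congrArg CommaMorphism.left hg
  haveI := (RedQuotLib.IsFppfCov.of_isQuotient hq).epi_left
  have h1' : g.left ≫ χ = 𝟙 Q.left := by
    rw [← cancel_epi q.left, Category.comp_id]
    exact (Category.assoc _ _ _).symm.trans ((congrArg (· ≫ χ) hg').trans hχ)
  have hprj : Spec.map (CommRingCat.ofHom (GLin.coactAlgHom k K G).toRingHom) ≫ prj =
      Spec.map (CommRingCat.ofHom (Algebra.TensorProduct.includeLeftRingHom : G →+* G ⊗[k] K)) ≫ prj := by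
    exact (congrArg (Spec.map _ ≫ ·) hg'.symm).trans (((Category.assoc _ _ _).symm.trans
      ((congrArg (· ≫ g.left) hψq).trans (Category.assoc _ _ _))).trans (congrArg (Spec.map _ ≫ ·) hg'))
  obtain ⟨χ', -, huniq⟩ := Groth.Agent.S12924.result k K G htame _ prj hprj
  have h2 : χ ≫ g.left = 𝟙 _ := by
    have e1 := huniq (χ ≫ g.left) (by
      show Spec.map (CommRingCat.ofHom (algebraMap C G)) ≫ χ ≫ g.left = prj
      exact ((Category.assoc _ _ _).symm.trans (congrArg (· ≫ g.left) hχ)).trans hg')
    have e2 := huniq (𝟙 _) (Category.comp_id _)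
    exact e1.trans e2.symm
  haveI : IsIso g.left := ⟨χ, h1', h2⟩
  haveI : IsAffine (CoactBr.sp k C).left := isAffine_Spec _
  exact IsAffine.of_isIso g.left

end Groth.Agent.CohDer1.LinRedExt
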