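import Groth.Agent.HopfLib.ReductiveExtra
import Mathlib.RingTheory.Flat.FaithfullyFlat.Algebra
import Mathlib.RingTheory.HopfAlgebra.Convolution

/-!
# Invariants of a torsor with values in a representation
-/

set_option autoImplicit false

noncomputable section

open TensorProduct HopfRep WithConv
open Groth.Agent.HopfLib
open Coalgebra (comul counit)

universe u v

namespace Groth.Agent.CohDer1.LinRedExt

variable {k : Type u} [Field k]

section Ev

variable {K : Type u} [CommRing K] [Bialgebra k K] {S : Type u} [CommRing S] [Algebra k S]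
  {V : Type u} [AddCommGroup V] [Module k V] [Comod k K V]

/-- A vector translated by an `S`-valued point. -/
def ev (g : K →ₗ[k] S) : V →ₗ[k] S ⊗[k] V :=
  g.rTensor V ∘ₗ (TensorProduct.comm k V K).toLinearMap ∘ₗ Comod.coact

theorem ev_comp {S' : Type u} [CommRing S'] [Algebra k S'] (f : S →ₗ[k] S') (g : K →ₗ[k] S) (v : V) :
    f.rTensor V (ev g v) = ev (f ∘ₗ g) v := by
  simp [ev, LinearMap.rTensor_comp]

theorem ev_natural {W : Type u} [AddCommGroup W] [Module k W] [Comod k K W] {f : V →ₗ[k] W}
    (hf : Hoch.IsComodHom K f) (g : K →ₗ[k] S) (v : V) : f.lTensor S (ev g v) = ev g (f v) := by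
  simp only [ev, LinearMap.comp_apply]
  rw [IsComodHom.coact_apply hf]
  generalize Comod.coact (k := k) (A := K) v = t
  induction t using TensorProduct.induction_on with
  | zero => simp
  | add p q hp hq => simp only [map_add, hp, hq]
  | tmul a b => simp

theorem ev_mul (g h : WithConv (K →ₐ[k] S)) (v : V) :
    TensorProduct.lift (LinearMap.mk₂ k (fun (a : V) (b : K) => h.ofConv b • ev g.ofConv.toLinearMap a)
      (fun a a' b => by rw [map_add, smul_add]) (fun c a b => by rw [map_smul, smul_comm])
      (fun a b b' => by rw [map_add, add_smul]) (fun c a b => by rw [map_smul, smul_assoc]))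
      (Comod.coact (k := k) (A := K) v) = ev (g * h).ofConv.toLinearMap v := by
  let F : (V ⊗[k] K) ⊗[k] K →ₗ[k] S ⊗[k] V :=
    (LinearMap.mul' k S).rTensor V ∘ₗ (TensorProduct.map g.ofConv.toLinearMap h.ofConv.toLinearMap).rTensor V ∘ₗ
      (TensorProduct.comm k V (K ⊗[k] K)).toLinearMap ∘ₗ (TensorProduct.assoc k V K K).toLinearMap
  have h1 : ∀ t : V ⊗[k] K, TensorProduct.lift (LinearMap.mk₂ k (fun (a : V) (b : K) =>
        h.ofConv b • ev g.ofConv.toLinearMap a)
      (fun a a' b => by rw [map_add, smul_add]) (fun c a b => by rw [map_smul, smul_comm])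
      (fun a b b' => by rw [map_add, add_smul]) (fun c a b => by rw [map_smul, smul_assoc])) t =
      F ((Comod.coact (k := k) (A := K) (V := V)).rTensor K t) := fun t => by
    induction t using TensorProduct.induction_on with
    | zero => simp
    | add p q hp hq => simp only [map_add, hp, hq]
    | tmul a b =>
      simp only [TensorProduct.lift.tmul, LinearMap.mk₂_apply, LinearMap.rTensor_tmul, ev, LinearMap.comp_apply]
      generalize Comod.coact (k := k) (A := K) a = s
      induction s using TensorProduct.induction_on with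
      | zero => simp
      | add p q hp hq => simp only [map_add, smul_add, TensorProduct.add_tmul, hp, hq]
      | tmul c d => simp [F, TensorProduct.smul_tmul', mul_comm]
  rw [h1]
  simp only [F, ev, LinearMap.comp_apply]
  rw [show (TensorProduct.assoc k V K K).toLinearMap ((Comod.coact (k := k) (A := K) (V := V)).rTensor K
      (Comod.coact (k := k) (A := K) v)) = (comul (R := k) (A := K)).lTensor V (Comod.coact v) from coassoc_apply v]
  generalize Comod.coact (k := k) (A := K) v = t
  induction t using TensorProduct.induction_on with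
  | zero => simp
  | add p q hp hq => simp only [map_add, hp, hq]
  | tmul a b =>
    simp only [LinearMap.lTensor_tmul, LinearEquiv.coe_coe, TensorProduct.comm_tmul, LinearMap.rTensor_tmul,
      AlgHom.toLinearMap_apply, AlgHom.convMul_apply]
    congr 1
    generalize comul (R := k) b = s
    induction s using TensorProduct.induction_on with
    | zero => simp
    | add p q hp hq => simp only [map_add, hp, hq]
    | tmul c d => simp

end Ev

theorem comp_convMul {A : Type u} [CommRing A] [Bialgebra k A] {S S' : Type u} [CommRing S] [Algebra k S]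
    [CommRing S'] [Algebra k S'] (f : S →ₐ[k] S') (g h : WithConv (A →ₐ[k] S)) :
    toConv (f.comp (g * h).ofConv) = toConv (f.comp g.ofConv) * toConv (f.comp h.ofConv) := by
  apply WithConv.ext
  refine AlgHom.ext fun a => ?_
  show f ((g * h).ofConv a) = _
  rw [AlgHom.convMul_apply, AlgHom.convMul_apply]
  generalize comul (R := k) a = t
  induction t using TensorProduct.induction_on with
  | zero => simp
  | add p q hp hq => simp only [map_add, hp, hq]
  | tmul p q => simp

theorem convMul_comp {A K : Type u} [CommRing A] [Bialgebra k A] [CommRing K] [Bialgebra k K] (π : A →ₐc[k] K)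
    {S : Type u} [CommRing S] [Algebra k S] (g h : WithConv (K →ₐ[k] S)) :
    toConv ((g * h).ofConv.comp (π : A →ₐ[k] K)) =
      toConv (g.ofConv.comp (π : A →ₐ[k] K)) * toConv (h.ofConv.comp (π : A →ₐ[k] K)) := by
  apply WithConv.ext
  refine AlgHom.ext fun a => ?_
  show (g * h).ofConv (π a) = _
  rw [AlgHom.convMul_apply, AlgHom.convMul_apply, ← CoalgHomClass.map_comp_comul_apply π a]
  generalize comul (R := k) a = t
  induction t using TensorProduct.induction_on with
  | zero => simp
  | add p q hp hq => simp only [map_add, hp, hq]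
  | tmul p q => simp

/-- The inverse of a point. -/
def pinv {A : Type u} [CommRing A] [HopfAlgebra k A] {S : Type u} [CommRing S] [Algebra k S]
    (g : WithConv (A →ₐ[k] S)) : WithConv (A →ₐ[k] S) :=
  toConv (g.ofConv.comp (HopfAlgebra.antipodeAlgHom k A))

theorem pinv_mul {A : Type u} [CommRing A] [HopfAlgebra k A] {S : Type u} [CommRing S] [Algebra k S]
    (g : WithConv (A →ₐ[k] S)) : pinv g * g = 1 := by
  have h := comp_convMul g.ofConv (toConv (AlgHom.id k A))⁻¹ (toConv (AlgHom.id k A))
  rw [inv_mul_cancel] at h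
  simp only [ofConv_toConv, AlgHom.comp_id, toConv_ofConv] at h
  refine Eq.trans (h.symm.trans ?_) rfl
  refine WithConv.ext (AlgHom.ext fun a => ?_)
  show g.ofConv ((1 : WithConv (A →ₐ[k] A)).ofConv a) = _
  rw [AlgHom.convOne_apply, AlgHom.convOne_apply, AlgHom.commutes]

theorem mul_pinv {A : Type u} [CommRing A] [HopfAlgebra k A] {S : Type u} [CommRing S] [Algebra k S]
    (g : WithConv (A →ₐ[k] S)) : g * pinv g = 1 := by
  have h := comp_convMul g.ofConv (toConv (AlgHom.id k A)) (toConv (AlgHom.id k A))⁻¹
  rw [mul_inv_cancel] at h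
  simp only [ofConv_toConv, AlgHom.comp_id, toConv_ofConv] at h
  refine Eq.trans (h.symm.trans ?_) rfl
  refine WithConv.ext (AlgHom.ext fun a => ?_)
  show g.ofConv ((1 : WithConv (A →ₐ[k] A)).ofConv a) = _
  rw [AlgHom.convOne_apply, AlgHom.convOne_apply, AlgHom.commutes]

theorem pt_cancel {A : Type u} [CommRing A] [HopfAlgebra k A] {S : Type u} [CommRing S] [Algebra k S]
    (g x y z : WithConv (A →ₐ[k] S)) (h : g * x * y = g * z) : x * y = z :=
  calc x * y = (pinv g * g) * (x * y) := by rw [pinv_mul, one_mul]
    _ = pinv g * (g * x * y) := (mul_assoc _ _ _).trans (congrArg _ (mul_assoc _ _ _).symm)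
    _ = pinv g * (g * z) := by rw [h]
    _ = (pinv g * g) * z := (mul_assoc _ _ _).symm
    _ = z := by rw [pinv_mul, one_mul]

section Torsor

variable {G : Type u} [CommRing G] [HopfAlgebra k G] {K : Type u} [CommRing K] [Bialgebra k K] (ψ : G →ₐc[k] K)

/-- The coaction of the quotient on the regular comodule. -/
def shift : G →ₐ[k] G ⊗[k] K :=
  (Algebra.TensorProduct.map (AlgHom.id k G) (ψ : G →ₐ[k] K)).comp (Bialgebra.comulAlgHom k G)

variable (C : Type u) [CommRing C] [Algebra k C] [Algebra C G] [IsScalarTower k C G]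

/-- The tautological translation of the two projections. -/
def transl : G →ₐ[k] G ⊗[C] G :=
  (pinv (toConv ((Algebra.TensorProduct.includeRight : G →ₐ[C] G ⊗[C] G).restrictScalars k)) *
    toConv (Algebra.TensorProduct.includeLeft : G →ₐ[k] G ⊗[C] G)).ofConv

/-- The hypotheses of a torsor. -/
structure IsTorsor : Prop where
  surj : Function.Surjective ψ
  inv : ∀ c : C, shift ψ (algebraMap C G c) = algebraMap C G c ⊗ₜ[k] (1 : K)
  kills : ∀ x : G, ψ x = 0 → transl (k := k) C x = 0

variable {ψ C} (hT : IsTorsor ψ C)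

/-- The coaction, linear over the base. -/
def rho : G →ₐ[C] G ⊗[k] K :=
  { shift ψ with commutes' := fun c => (hT.inv c).trans (by rw [Algebra.TensorProduct.algebraMap_apply]) }

/-- The translation on the quotient. -/
def tau : K →ₐ[k] G ⊗[C] G :=
  (Ideal.Quotient.liftₐ (RingHom.ker (ψ : G →ₐ[k] K)) (transl (k := k) C) fun x hx => hT.kills x hx).comp
    (Ideal.quotientKerAlgEquivOfSurjective (f := (ψ : G →ₐ[k] K)) hT.surj).symm.toAlgHom

theorem tau_psi (x : G) : tau hT (ψ x) = transl (k := k) C x := by
  have h : (Ideal.quotientKerAlgEquivOfSurjective (f := (ψ : G →ₐ[k] K)) hT.surj).symm (ψ x) =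
      Ideal.Quotient.mk _ x := by
    rw [AlgEquiv.symm_apply_eq]
    rfl
  simp [tau, h]

/-- `1 ⊗ (1 ⊗ h)`. -/
def iK : K →ₐ[k] G ⊗[C] (G ⊗[k] K) :=
  ((Algebra.TensorProduct.includeRight : G ⊗[k] K →ₐ[C] G ⊗[C] (G ⊗[k] K)).restrictScalars k).comp
    Algebra.TensorProduct.includeRight

/-- `c ⊗ a ↦ c ⊗ (a ⊗ 1)`. -/
def iB : G ⊗[C] G →ₐ[C] G ⊗[C] (G ⊗[k] K) :=
  Algebra.TensorProduct.map (AlgHom.id C G) (Algebra.TensorProduct.includeLeft : G →ₐ[C] G ⊗[k] K)

/-- `c ⊗ a ↦ c ⊗ ρ a`. -/
def rhoB : G ⊗[C] G →ₐ[C] G ⊗[C] (G ⊗[k] K) :=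
  Algebra.TensorProduct.map (AlgHom.id C G) (rho hT)

/-- `c ⊗ (a ⊗ h) ↦ (c ⊗ a) τ h`. -/
def phi : G ⊗[C] (G ⊗[k] K) →ₐ[C] G ⊗[C] G :=
  Algebra.TensorProduct.lift Algebra.TensorProduct.includeLeft
    (Algebra.TensorProduct.lift (Algebra.TensorProduct.includeRight : G →ₐ[C] G ⊗[C] G) (tau hT)
      fun _ _ => Commute.all _ _) fun _ _ => Commute.all _ _

theorem includeRight_mul_transl (a : G) :
    ((toConv ((Algebra.TensorProduct.includeRight : G →ₐ[C] G ⊗[C] G).restrictScalars k)) *
      toConv (transl (k := k) C)).ofConv a = a ⊗ₜ[C] (1 : G) := by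
  rw [transl, toConv_ofConv, ← mul_assoc, mul_pinv, one_mul]
  rfl

theorem phi_rhoB (c a : G) : phi hT (rhoB hT (c ⊗ₜ[C] a)) = (c * a) ⊗ₜ[C] (1 : G) := by
  have h := includeRight_mul_transl (k := k) (C := C) a
  rw [AlgHom.convMul_apply] at h
  simp only [phi, rhoB, Algebra.TensorProduct.map_tmul, Algebra.TensorProduct.lift_tmul, AlgHom.coe_id, id_eq]
  have e : Algebra.TensorProduct.lift (Algebra.TensorProduct.includeRight : G →ₐ[C] G ⊗[C] G) (tau hT)
      (fun _ _ => Commute.all _ _) (rho hT a) = a ⊗ₜ[C] (1 : G) := by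
    rw [← h, show rho hT a = Algebra.TensorProduct.map (AlgHom.id k G) (ψ : G →ₐ[k] K) (comul (R := k) a) from rfl]
    generalize comul (R := k) a = t
    induction t using TensorProduct.induction_on with
    | zero => simp
    | add p q hp hq => simp only [map_add, hp, hq]
    | tmul p q => simp [tau_psi hT]
  rw [e, Algebra.TensorProduct.includeLeft_apply, Algebra.TensorProduct.tmul_mul_tmul, one_mul]

theorem phi_iB (b : G ⊗[C] G) : phi hT ((iB (k := k) (G := G) (K := K) (C := C)) b) = b := by
  induction b using TensorProduct.induction_on with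
  | zero => simp
  | add p q hp hq => simp only [map_add, hp, hq]
  | tmul c a => simp [phi, iB]

theorem phi_iK (h : K) : phi hT (iK (k := k) (G := G) (K := K) (C := C) h) = tau hT h := by
  simp only [phi, iK, AlgHom.comp_apply, AlgHom.restrictScalars_apply, Algebra.TensorProduct.includeRight_apply,
    Algebra.TensorProduct.lift_tmul, map_one, one_mul]

theorem iK_mul_rhoB_tau :
    (toConv (iK (k := k) (G := G) (K := K) (C := C))) * toConv (((rhoB hT).restrictScalars k).comp (tau hT)) =
      toConv (((iB (k := k) (G := G) (K := K) (C := C)).restrictScalars k).comp (tau hT)) := by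
  apply WithConv.ext
  refine AlgHom.ext fun h => ?_
  obtain ⟨a, rfl⟩ := hT.surj h
  refine DFunLike.congr_fun (f := ((toConv (iK (k := k) (G := G) (K := K) (C := C))) *
    toConv (((rhoB hT).restrictScalars k).comp (tau hT))).ofConv.comp (ψ : G →ₐ[k] K))
    (g := (((iB (k := k) (G := G) (K := K) (C := C)).restrictScalars k).comp (tau hT)).comp (ψ : G →ₐ[k] K)) ?_ a
  refine toConv_injective ?_
  rw [convMul_comp]
  simp only [ofConv_toConv]
  have eτ : (tau hT).comp (ψ : G →ₐ[k] K) = transl (k := k) C := AlgHom.ext (tau_psi hT)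
  simp only [AlgHom.comp_assoc, eτ]
  let iL : WithConv (G →ₐ[k] G ⊗[C] G) := toConv Algebra.TensorProduct.includeLeft
  let iR : WithConv (G →ₐ[k] G ⊗[C] G) :=
    toConv ((Algebra.TensorProduct.includeRight : G →ₐ[C] G ⊗[C] G).restrictScalars k)
  have h0 : iR * toConv (transl (k := k) C) = iL := by rw [transl, toConv_ofConv, ← mul_assoc, mul_pinv, one_mul]
  have hR := congrArg (fun f : WithConv (G →ₐ[k] G ⊗[C] G) => toConv (((rhoB hT).restrictScalars k).comp f.ofConv)) h0
  have hB := congrArg (fun f : WithConv (G →ₐ[k] G ⊗[C] G) =>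
    toConv (((iB (k := k) (G := G) (K := K) (C := C)).restrictScalars k).comp f.ofConv)) h0
  simp only [comp_convMul, ofConv_toConv] at hR hB
  have e1 : toConv (((rhoB hT).restrictScalars k).comp iR.ofConv) =
      toConv (((iB (k := k) (G := G) (K := K) (C := C)).restrictScalars k).comp iR.ofConv) *
        toConv ((iK (k := k) (G := G) (K := K) (C := C)).comp (ψ : G →ₐ[k] K)) := by
    apply WithConv.ext
    refine AlgHom.ext fun x => ?_
    rw [AlgHom.convMul_apply]
    simp only [iR, ofConv_toConv, AlgHom.comp_apply, AlgHom.restrictScalars_apply,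
      Algebra.TensorProduct.includeRight_apply, rhoB, Algebra.TensorProduct.map_tmul, AlgHom.coe_id, id_eq]
    rw [show rho hT x = Algebra.TensorProduct.map (AlgHom.id k G) (ψ : G →ₐ[k] K) (comul (R := k) x) from rfl]
    generalize comul (R := k) x = t
    induction t using TensorProduct.induction_on with
    | zero => simp
    | add p q hp hq => simp only [map_add, TensorProduct.tmul_add, hp, hq]
    | tmul p q => simp [iB, iK]
  have e2 : toConv (((rhoB hT).restrictScalars k).comp iL.ofConv) =
      toConv (((iB (k := k) (G := G) (K := K) (C := C)).restrictScalars k).comp iL.ofConv) := by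
    apply WithConv.ext
    refine AlgHom.ext fun x => ?_
    simp [iL, rhoB, iB, Algebra.TensorProduct.one_def]
  rw [e1, e2, ← hB] at hR
  exact pt_cancel _ _ _ _ hR

variable {V : Type u} [AddCommGroup V] [Module k V] [Comod k K V]

variable (V) in
/-- The coaction on functions with values in a comodule. -/
def dMap : G ⊗[k] V →ₗ[C] (G ⊗[k] K) ⊗[k] V :=
  TensorProduct.AlgebraTensorModule.lift
    { toFun := fun a => rho hT a • ev (Algebra.TensorProduct.includeRight : K →ₐ[k] G ⊗[k] K).toLinearMap
      map_add' := fun a b => by rw [map_add, add_smul]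
      map_smul' := fun c a => by rw [map_smul, RingHom.id_apply, smul_assoc] }

variable (V) in
/-- The defect of invariance. -/
def defect : G ⊗[k] V →ₗ[C] (G ⊗[k] K) ⊗[k] V :=
  dMap hT V - TensorProduct.AlgebraTensorModule.map
    (Algebra.TensorProduct.includeLeft : G →ₐ[C] G ⊗[k] K).toLinearMap (LinearMap.id : V →ₗ[k] V)

theorem dMap_tmul (a : G) (v : V) : dMap hT V (a ⊗ₜ[k] v) =
    rho hT a • ev (Algebra.TensorProduct.includeRight : K →ₐ[k] G ⊗[k] K).toLinearMap v := rfl

theorem defect_tmul (a : G) (v : V) : defect hT V (a ⊗ₜ[k] v) =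
    rho hT a • ev (Algebra.TensorProduct.includeRight : K →ₐ[k] G ⊗[k] K).toLinearMap v -
      (a ⊗ₜ[k] (1 : K)) ⊗ₜ[k] v := rfl

theorem defect_natural {W : Type u} [AddCommGroup W] [Module k W] [Comod k K W] {f : V →ₗ[k] W}
    (hf : Hoch.IsComodHom K f) (x : G ⊗[k] V) :
    defect hT W (f.lTensor G x) = f.lTensor (G ⊗[k] K) (defect hT V x) := by
  induction x using TensorProduct.induction_on with
  | zero => simp
  | add p q hp hq => simp only [map_add, hp, hq]
  | tmul a v =>
    rw [LinearMap.lTensor_tmul, defect_tmul, defect_tmul, map_sub, LinearMap.lTensor_tmul, ← ev_natural hf]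
    congr 1
    generalize ev (Algebra.TensorProduct.includeRight : K →ₐ[k] G ⊗[k] K).toLinearMap v = y
    induction y using TensorProduct.induction_on with
    | zero => simp
    | add p q hp hq => simp only [map_add, smul_add, hp, hq]
    | tmul s w => simp [TensorProduct.smul_tmul']

variable (k C V) in
/-- Reassociation. -/
def assocV (M : Type u) [CommRing M] [Algebra k M] [Algebra C M] [IsScalarTower k C M] :
    G ⊗[C] (M ⊗[k] V) ≃ₗ[C] (G ⊗[C] M) ⊗[k] V :=
  (TensorProduct.AlgebraTensorModule.assoc k C C G M V).symm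

variable (V) in
/-- The coaction after base change. -/
def dBig : (G ⊗[C] G) ⊗[k] V →ₗ[k] (G ⊗[C] (G ⊗[k] K)) ⊗[k] V :=
  TensorProduct.lift (LinearMap.mk₂ k (fun (b : G ⊗[C] G) (v : V) => rhoB hT b • ev (iK (k := k) (G := G) (K := K) (C := C)).toLinearMap v)
    (fun a a' v => by rw [map_add, add_smul])
    (fun c a v => by rw [← (rhoB hT).restrictScalars_apply k, map_smul, smul_assoc]; rfl)
    (fun a v v' => by rw [map_add, smul_add]) (fun c a v => by rw [map_smul, smul_comm]))

theorem dBig_tmul (b : G ⊗[C] G) (v : V) :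
    dBig hT V (b ⊗ₜ[k] v) = rhoB hT b • ev (iK (k := k) (G := G) (K := K) (C := C)).toLinearMap v := rfl

theorem dBig_smul (b : G ⊗[C] G) (x : (G ⊗[C] G) ⊗[k] V) : dBig hT V (b • x) = rhoB hT b • dBig hT V x := by
  induction x using TensorProduct.induction_on with
  | zero => simp
  | add p q hp hq => simp only [map_add, smul_add, hp, hq]
  | tmul c v => rw [TensorProduct.smul_tmul', dBig_tmul, dBig_tmul, smul_eq_mul, map_mul]; exact (smul_smul _ _ _).symm

theorem iB_smul (b : G ⊗[C] G) (x : (G ⊗[C] G) ⊗[k] V) :
    ((iB (k := k) (G := G) (K := K) (C := C)).toLinearMap.restrictScalars k).rTensor V (b • x) =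
      (iB (k := k) (G := G) (K := K) (C := C)) b • ((iB (k := k) (G := G) (K := K) (C := C)).toLinearMap.restrictScalars k).rTensor V x := by
  induction x using TensorProduct.induction_on with
  | zero => simp
  | add p q hp hq => simp only [map_add, smul_add, hp, hq]
  | tmul c v => simp [TensorProduct.smul_tmul', map_mul]

variable (V) in
/-- `z ↦ iB z`. -/
def iBig : (G ⊗[C] G) ⊗[k] V →ₗ[k] (G ⊗[C] (G ⊗[k] K)) ⊗[k] V :=
  ((iB (k := k) (G := G) (K := K) (C := C)).toLinearMap.restrictScalars k).rTensor V

theorem assocV_defect (z : G ⊗[C] (G ⊗[k] V)) :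
    assocV k C V (G ⊗[k] K) ((defect hT V).lTensor G z) =
      dBig hT V (assocV k C V G z) - iBig V (assocV k C V G z) := by
  have e1 : ∀ (c : G) (s : G ⊗[k] K) (y : (G ⊗[k] K) ⊗[k] V),
      assocV k C V (G ⊗[k] K) (c ⊗ₜ[C] (s • y)) = (c ⊗ₜ[C] s) •
        (((Algebra.TensorProduct.includeRight : G ⊗[k] K →ₐ[C] G ⊗[C] (G ⊗[k] K)).toLinearMap.restrictScalars k).rTensor V
          y) := by
    intro c s y
    induction y using TensorProduct.induction_on with
    | zero => simp
    | add p q hp hq => simp only [smul_add, TensorProduct.tmul_add, map_add, hp, hq]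
    | tmul s' v => simp [assocV, TensorProduct.smul_tmul']
  induction z using TensorProduct.induction_on with
  | zero => simp
  | add p q hp hq => simp only [map_add, hp, hq]; abel
  | tmul c x =>
    induction x using TensorProduct.induction_on with
    | zero => simp
    | add p q hp hq =>
      simp only [TensorProduct.tmul_add, map_add, LinearMap.lTensor_tmul] at hp hq ⊢
      rw [hp, hq]
      abel
    | tmul a v =>
      rw [LinearMap.lTensor_tmul, defect_tmul, TensorProduct.tmul_sub, map_sub, e1, ev_comp,
        show assocV k C V G (c ⊗ₜ[C] (a ⊗ₜ[k] v)) = (c ⊗ₜ[C] a) ⊗ₜ[k] v from rfl, dBig_tmul]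
      congr 1

/-- The canonical invariant. -/
def theta : V →ₗ[k] (G ⊗[C] G) ⊗[k] V := ev (tau hT).toLinearMap

theorem dBig_theta (v : V) : dBig hT V (theta hT v) = iBig V (theta hT v) := by
  have h := ev_mul (toConv (iK (k := k) (G := G) (K := K) (C := C)))
    (toConv (((rhoB hT).restrictScalars k).comp (tau hT))) v
  rw [iK_mul_rhoB_tau hT] at h
  rw [theta, iBig, ev_comp]
  refine Eq.trans ?_ h
  simp only [ev, LinearMap.comp_apply]
  generalize Comod.coact (k := k) (A := K) v = t
  induction t using TensorProduct.induction_on with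
  | zero => simp
  | add p q hp hq => simp only [map_add, hp, hq]
  | tmul a b =>
    simp only [LinearEquiv.coe_coe, TensorProduct.comm_tmul, LinearMap.rTensor_tmul, dBig_tmul, TensorProduct.lift.tmul,
      LinearMap.mk₂_apply]
    rfl

variable (V) in
/-- The invariants spanned by the canonical ones. -/
def canon : Submodule k ((G ⊗[C] G) ⊗[k] V) :=
  Submodule.span k (Set.range fun p : G × V => (p.1 ⊗ₜ[C] (1 : G)) • theta hT p.2)

theorem mem_canon {z : (G ⊗[C] G) ⊗[k] V} (hz : dBig hT V z = iBig V z) : z ∈ canon hT V := by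
  let Θ : (G ⊗[C] (G ⊗[k] K)) ⊗[k] V →ₗ[k] (G ⊗[C] G) ⊗[k] V :=
    ((phi hT).toLinearMap.restrictScalars k).rTensor V
  have hΘ : ∀ (s : G ⊗[C] (G ⊗[k] K)) (y : (G ⊗[C] (G ⊗[k] K)) ⊗[k] V), Θ (s • y) = phi hT s • Θ y := by
    intro s y
    induction y using TensorProduct.induction_on with
    | zero => simp
    | add p q hp hq => simp only [map_add, smul_add, hp, hq]
    | tmul s' w => simp [Θ, TensorProduct.smul_tmul']
  have h1 : Θ (iBig V z) = z := by
    clear hz
    induction z using TensorProduct.induction_on with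
    | zero => simp
    | add p q hp hq => simp only [map_add, hp, hq]
    | tmul b v => simp [Θ, iBig, phi_iB hT]
  rw [← h1, ← hz]
  clear h1 hz
  induction z using TensorProduct.induction_on with
  | zero => simp
  | add p q hp hq => simp only [map_add]; exact add_mem hp hq
  | tmul b v =>
    rw [dBig_tmul, hΘ, ev_comp, show (phi hT).toLinearMap.restrictScalars k ∘ₗ (iK (k := k) (G := G) (K := K) (C := C)).toLinearMap =
      (tau hT).toLinearMap from LinearMap.ext (phi_iK hT)]
    induction b using TensorProduct.induction_on with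
    | zero => simp
    | add p q hp hq => simp only [map_add, add_smul]; exact add_mem hp hq
    | tmul c a =>
      rw [phi_rhoB]
      exact Submodule.subset_span ⟨(c * a, v), rfl⟩

include hT in
/-- Invariants with values in a representation are exact. -/
theorem exists_invariant_lift [Module.FaithfullyFlat C G] {W : Type u} [AddCommGroup W] [Module k W] [Comod k K W]
    {f : V →ₗ[k] W} (hf : Hoch.IsComodHom K f) (hsurj : Function.Surjective f) {w : G ⊗[k] W}
    (hw : defect hT W w = 0) : ∃ x : G ⊗[k] V, defect hT V x = 0 ∧ f.lTensor G x = w := by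
  let fC : G ⊗[k] V →ₗ[C] G ⊗[k] W := TensorProduct.AlgebraTensorModule.map LinearMap.id f
  have hfC : ∀ x, fC x = f.lTensor G x := fun x => by
    induction x using TensorProduct.induction_on with
    | zero => simp
    | add p q hp hq => simp only [map_add, hp, hq]
    | tmul a v => simp [fC]
  let fK : LinearMap.ker (defect hT V) →ₗ[C] LinearMap.ker (defect hT W) := fC.restrict fun x hx => by
    rw [LinearMap.mem_ker] at hx ⊢
    rw [hfC, defect_natural hT hf, hx, map_zero]
  suffices Function.Surjective fK by
    obtain ⟨x, hx⟩ := this ⟨w, hw⟩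
    exact ⟨x.1, x.2, (hfC _).symm.trans (congrArg Subtype.val hx)⟩
  refine (Module.FaithfullyFlat.lTensor_surjective_iff_surjective C G (N := LinearMap.ker (defect hT V)) (N' := LinearMap.ker (defect hT W)) fK).1 ?_
  have hgen : ∀ q : LinearMap.ker (defect hT W), (1 : G) ⊗ₜ[C] q ∈ LinearMap.range (fK.baseChange G) := by
    intro q
    let z := assocV k C W G ((1 : G) ⊗ₜ[C] (q : G ⊗[k] W))
    have hz : dBig hT W z = iBig W z := by
      have := assocV_defect hT ((1 : G) ⊗ₜ[C] (q : G ⊗[k] W))
      rw [LinearMap.lTensor_tmul, LinearMap.mem_ker.1 q.2, TensorProduct.tmul_zero, map_zero] at this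
      exact sub_eq_zero.1 this.symm
    obtain ⟨z', hz', hzz⟩ : ∃ z' : (G ⊗[C] G) ⊗[k] V, dBig hT V z' = iBig V z' ∧ f.lTensor (G ⊗[C] G) z' = z := by
      have := mem_canon hT hz
      refine Submodule.span_induction ?_ ⟨0, by simp, map_zero _⟩
        (fun x y _ _ ⟨x', h1, h2⟩ ⟨y', h3, h4⟩ => ⟨x' + y', by rw [map_add, map_add, h1, h3], by rw [map_add, h2, h4]⟩)
        (fun c x _ ⟨x', h1, h2⟩ => ⟨c • x', by rw [map_smul, map_smul, h1], by rw [map_smul, h2]⟩) this
      rintro _ ⟨⟨c, w'⟩, rfl⟩
      obtain ⟨v, rfl⟩ := hsurj w'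
      refine ⟨(c ⊗ₜ[C] (1 : G)) • theta hT v, ?_, ?_⟩
      · rw [dBig_smul, dBig_theta, iBig, iB_smul]
        congr 1
        simp [rhoB, iB, rho, shift, Algebra.TensorProduct.one_def]
      · simp only [theta, ← ev_natural hf]
        generalize ev (tau hT).toLinearMap v = y
        induction y using TensorProduct.induction_on with
        | zero => simp
        | add p q hp hq => simp only [map_add, smul_add, hp, hq]
        | tmul s v' => simp [TensorProduct.smul_tmul']
    let t := (assocV k C V G).symm z'
    have ht : (defect hT V).lTensor G t = 0 := by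
      refine (assocV k C V (G ⊗[k] K)).injective ?_
      rw [assocV_defect, LinearEquiv.apply_symm_apply, map_zero, sub_eq_zero]
      exact hz'
    obtain ⟨y, hy⟩ := (Module.Flat.lTensor_exact (N := LinearMap.ker (defect hT V)) G (LinearMap.exact_subtype_ker_map (defect hT V)) t).1 ht
    refine ⟨y, Module.Flat.lTensor_preserves_injective_linearMap (LinearMap.ker (defect hT W)).subtype
      Subtype.val_injective ?_⟩
    have hnat : ∀ t : G ⊗[C] (G ⊗[k] V),
        assocV k C W G (fC.lTensor G t) = f.lTensor (G ⊗[C] G) (assocV k C V G t) := fun t => by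
      induction t using TensorProduct.induction_on with
      | zero => simp
      | add p q hp hq => simp only [map_add, hp, hq]
      | tmul c x =>
        induction x using TensorProduct.induction_on with
        | zero => simp
        | add p q hp hq =>
          simp only [LinearMap.lTensor_tmul, TensorProduct.tmul_add, map_add] at hp hq ⊢
          rw [hp, hq]
        | tmul a v => simp [fC, assocV]
    refine (assocV k C W G).injective ?_
    rw [LinearMap.baseChange_eq_ltensor, ← LinearMap.lTensor_comp_apply,
      show (LinearMap.ker (defect hT W)).subtype ∘ₗ fK = fC ∘ₗ (LinearMap.ker (defect hT V)).subtype from rfl,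
      LinearMap.lTensor_comp_apply, hy, hnat, LinearEquiv.apply_symm_apply, hzz]
    rfl
  intro y
  suffices y ∈ LinearMap.range (fK.baseChange G) by
    obtain ⟨x, hx⟩ := this
    exact ⟨x, by rw [← hx, LinearMap.baseChange_eq_ltensor]⟩
  induction y using TensorProduct.induction_on with
  | zero => exact zero_mem _
  | add p q hp hq => exact add_mem hp hq
  | tmul c q =>
    rw [show c ⊗ₜ[C] q = c • ((1 : G) ⊗ₜ[C] q) by rw [TensorProduct.smul_tmul', smul_eq_mul, mul_one]]
    exact Submodule.smul_mem _ _ (hgen q)

include hT in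
/-- Fixed vectors lift along a torsor of a group with an integral. -/
theorem exists_fixed_lift [Module.FaithfullyFlat C G] {α : G →ₗ[k] k} (hα : IsIntegral α) (h1 : α 1 = 1)
    {W : Type u} [AddCommGroup W] [Module k W] [Comod k K W] {f : V →ₗ[k] W} (hf : Hoch.IsComodHom K f)
    (hsurj : Function.Surjective f) {w : W} (hw : w ∈ fixedPts k K W) :
    ∃ v ∈ fixedPts k K V, f v = w := by
  have hev : ev (Algebra.TensorProduct.includeRight : K →ₐ[k] G ⊗[k] K).toLinearMap w =
      ((1 : G) ⊗ₜ[k] (1 : K)) ⊗ₜ[k] w := by
    simp only [ev, LinearMap.comp_apply]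
    rw [show Comod.coact (k := k) (A := K) w = w ⊗ₜ[k] 1 from hw]
    simp
  have hw' : defect hT W ((1 : G) ⊗ₜ[k] w) = 0 := by
    rw [defect_tmul, map_one, one_smul, hev, sub_self]
  obtain ⟨x, hx, hfx⟩ := exists_invariant_lift hT hf hsurj hw'
  let red : G ⊗[k] V →ₗ[k] V := (TensorProduct.lid k V).toLinearMap ∘ₗ α.rTensor V
  refine ⟨red x, ?_, ?_⟩
  · let Λ : (G ⊗[k] K) ⊗[k] V →ₗ[k] V ⊗[k] K :=
      (TensorProduct.comm k K V).toLinearMap ∘ₗ ((TensorProduct.lid k K).toLinearMap ∘ₗ α.rTensor K).rTensor V
    have key : ∀ x : G ⊗[k] V, Λ (defect hT V x) =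
        Comod.coact (k := k) (A := K) (red x) - red x ⊗ₜ[k] (1 : K) := by
      intro x
      induction x using TensorProduct.induction_on with
      | zero => simp
      | add p q hp hq => simp only [map_add, hp, hq, TensorProduct.add_tmul]; abel
      | tmul a v =>
        rw [defect_tmul, map_sub]
        congr 1
        · have hint : ((TensorProduct.lid k K).toLinearMap ∘ₗ α.rTensor K) (rho hT a) = α a • (1 : K) := by
            have := congrArg ψ (hα a)
            rw [map_smul, map_one] at this
            rw [← this, show rho hT a =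
              Algebra.TensorProduct.map (AlgHom.id k G) (ψ : G →ₐ[k] K) (comul (R := k) a) from rfl]
            generalize comul (R := k) a = t
            induction t using TensorProduct.induction_on with
            | zero => simp
            | add p q hp hq => simp only [map_add, hp, hq]
            | tmul p q => simp
          have e : ∀ (s : G ⊗[k] K) (y : V ⊗[k] K),
              Λ (s • (Algebra.TensorProduct.includeRight : K →ₐ[k] G ⊗[k] K).toLinearMap.rTensor V
                (TensorProduct.comm k V K y)) =
              (LinearMap.mulLeft k (((TensorProduct.lid k K).toLinearMap ∘ₗ α.rTensor K) s)).lTensor V y := by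
            intro s y
            induction y using TensorProduct.induction_on with
            | zero => simp
            | add p q hp hq => simp only [map_add, smul_add, hp, hq]
            | tmul v' h =>
              induction s using TensorProduct.induction_on with
              | zero => simp
              | add p q hp hq =>
                simp only [add_smul, map_add, hp, hq]
                simp [add_mul, TensorProduct.tmul_add]
              | tmul p q => simp [Λ, TensorProduct.smul_tmul', TensorProduct.tmul_smul, smul_mul_assoc]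
          simp only [ev, LinearMap.comp_apply, LinearEquiv.coe_coe]
          rw [e, hint]
          show (LinearMap.mulLeft k (α a • (1 : K))).lTensor V (Comod.coact v) = _
          rw [show LinearMap.mulLeft k (α a • (1 : K)) = α a • (LinearMap.id : K →ₗ[k] K) from
            LinearMap.ext fun h => by simp, LinearMap.lTensor_smul, LinearMap.lTensor_id]
          simp [red]
        · simp [Λ, red, TensorProduct.smul_tmul']
    have := key x
    rw [hx, map_zero] at this
    exact sub_eq_zero.1 this.symm
  · have : ∀ x : G ⊗[k] V, f (red x) = ((TensorProduct.lid k W).toLinearMap ∘ₗ α.rTensor W) (f.lTensor G x) :=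
      fun x => by
      induction x using TensorProduct.induction_on with
      | zero => simp
      | add p q hp hq => simp only [map_add, hp, hq]
      | tmul a v => simp [red]
    rw [this, hfx]
    simp [h1]

end Torsor

end Groth.Agent.CohDer1.LinRedExt
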