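import Groth.Agent.CohDer1.LinRedExt.Descent
import Groth.Agent.S16717
import Groth.Agent.HopfQuot.UnipotentCrit
import Groth.Agent.HopfLib.FaithfullyFlat
import Groth.Agent.HopfLib.ComodSubcoalg
import Mathlib.RingTheory.RingHom.FaithfullyFlat

/-!
# Linear reductivity in exact sequences
-/

set_option autoImplicit false

noncomputable section

open TensorProduct HopfRep WithConv
open Groth.Agent.HopfLib Groth.Agent.HopfQuot
open Coalgebra (comul counit)

universe u

namespace Groth.Agent.CohDer1.LinRedExt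

variable {k : Type u} [Field k] {Q G K : Type u} [CommRing Q] [HopfAlgebra k Q]
  [CommRing G] [HopfAlgebra k G] [CommRing K] [HopfAlgebra k K]
  {φ : Q →ₐc[k] G} {ψ : G →ₐc[k] K}

theorem psi_phi (hker : RingHom.ker (ψ : G →ₐ[k] K) =
    Ideal.map (φ : Q →ₐ[k] G) (RingHom.ker (Bialgebra.counitAlgHom k Q))) (q : Q) :
    ψ (φ q) = algebraMap k K (counit (R := k) q) := by
  have h : q - algebraMap k Q (counit (R := k) q) ∈ RingHom.ker (Bialgebra.counitAlgHom k Q) := by
    simp [RingHom.mem_ker]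
  have h2 := hker.ge (Ideal.mem_map_of_mem (φ : Q →ₐ[k] G) h)
  rw [RingHom.mem_ker, map_sub, map_sub, sub_eq_zero, AlgHom.commutes, AlgHom.commutes] at h2
  exact h2

/-- An exact sequence gives a torsor. -/
theorem isTorsor (hψ : Function.Surjective ψ) (hker : RingHom.ker (ψ : G →ₐ[k] K) =
      Ideal.map (φ : Q →ₐ[k] G) (RingHom.ker (Bialgebra.counitAlgHom k Q))) :
    letI : Algebra Q G := (φ : Q →+* G).toAlgebra
    haveI : IsScalarTower k Q G := .of_algebraMap_eq fun c => ((φ : Q →ₐ[k] G).commutes c).symm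
    IsTorsor ψ Q := by
  letI : Algebra Q G := (φ : Q →+* G).toAlgebra
  haveI : IsScalarTower k Q G := .of_algebraMap_eq fun c => ((φ : Q →ₐ[k] G).commutes c).symm
  refine ⟨hψ, fun q => ?_, ?_⟩
  · show shift ψ (φ q) = φ q ⊗ₜ[k] (1 : K)
    show Algebra.TensorProduct.map (AlgHom.id k G) (ψ : G →ₐ[k] K) (comul (R := k) (φ q)) = _
    rw [← CoalgHomClass.map_comp_comul_apply φ q]
    conv_rhs => rw [← hitR_counit (k := k) q]
    simp only [hitR, LinearMap.comp_apply]
    generalize comul (R := k) q = t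
    induction t using TensorProduct.induction_on with
    | zero => simp
    | add p p' hp hp' => simp only [map_add, hp, hp', TensorProduct.add_tmul]
    | tmul p p' =>
      simp [psi_phi hker, Algebra.algebraMap_eq_smul_one, TensorProduct.smul_tmul']
  · intro x hx
    have key : (transl (k := k) Q : G →ₐ[k] G ⊗[Q] G).comp (φ : Q →ₐ[k] G) =
        (1 : WithConv (Q →ₐ[k] G ⊗[Q] G)).ofConv := by
      let iL : WithConv (G →ₐ[k] G ⊗[Q] G) := toConv Algebra.TensorProduct.includeLeft
      let iR : WithConv (G →ₐ[k] G ⊗[Q] G) :=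
        toConv ((Algebra.TensorProduct.includeRight : G →ₐ[Q] G ⊗[Q] G).restrictScalars k)
      let g : WithConv (Q →ₐ[k] G ⊗[Q] G) := toConv (iL.ofConv.comp (φ : Q →ₐ[k] G))
      have h0 : iR * toConv (transl (k := k) Q) = iL := by rw [transl, toConv_ofConv, ← mul_assoc, mul_pinv, one_mul]
      have hgR : toConv (iR.ofConv.comp (φ : Q →ₐ[k] G)) = g := WithConv.ext (AlgHom.ext fun q => by
        show (1 : G) ⊗ₜ[Q] algebraMap Q G q = algebraMap Q G q ⊗ₜ[Q] (1 : G)
        rw [Algebra.algebraMap_eq_smul_one, TensorProduct.tmul_smul, TensorProduct.smul_tmul'])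
      have h := convMul_comp φ iR (toConv (transl (k := k) Q))
      rw [h0, hgR] at h
      have h' := congrArg (pinv g * ·) h
      simp only [ofConv_toConv] at h'
      rw [pinv_mul] at h'
      rw [show pinv g * (g * toConv ((transl (k := k) Q : G →ₐ[k] G ⊗[Q] G).comp (φ : Q →ₐ[k] G))) =
        toConv ((transl (k := k) Q : G →ₐ[k] G ⊗[Q] G).comp (φ : Q →ₐ[k] G)) from
          (mul_assoc _ _ _).symm.trans (by rw [pinv_mul, one_mul])] at h'
      exact (congrArg WithConv.ofConv h').symm
    have hx' : x ∈ Ideal.map (φ : Q →ₐ[k] G) (RingHom.ker (Bialgebra.counitAlgHom k Q)) := hker.le hx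
    refine (Ideal.map_le_iff_le_comap (K := RingHom.ker (transl (k := k) Q : G →ₐ[k] G ⊗[Q] G))).2 ?_ hx'
    intro q hq
    show (transl (k := k) Q : G →ₐ[k] G ⊗[Q] G).comp (φ : Q →ₐ[k] G) q = 0
    rw [key, AlgHom.convOne_apply, show counit (R := k) q = 0 from hq, map_zero]

section Directions

variable (hφ : Function.Injective φ) (hψ : Function.Surjective ψ)
  (hker : RingHom.ker (ψ : G →ₐ[k] K) =
    Ideal.map (φ : Q →ₐ[k] G) (RingHom.ker (Bialgebra.counitAlgHom k Q)))
  [Algebra.FiniteType k Q] [Algebra.FiniteType k G] [Algebra.FiniteType k K]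

include hφ hψ hker in
omit [Algebra.FiniteType k G] in
/-- A normal subgroup of a linearly reductive group is linearly reductive. -/
theorem isLinearlyReductive_kernel (hG : IsLinearlyReductive k G) : IsLinearlyReductive k K := by
  haveI : IsNoetherianRing Q := Algebra.FiniteType.isNoetherianRing k Q
  letI : Algebra Q G := (φ : Q →+* G).toAlgebra
  haveI : IsScalarTower k Q G := .of_algebraMap_eq fun c => ((φ : Q →ₐ[k] G).commutes c).symm
  haveI : Module.FaithfullyFlat Q G := faithfullyFlat_of_injective φ hφ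
  obtain ⟨α, hα, h1⟩ := exists_integral hG
  refine (Groth.Agent.S16717.result k K inferInstance).2 fun V W _ _ _ _ _ _ f hf hsurj w hw => ?_
  exact exists_fixed_lift (isTorsor hψ hker) hα h1 hf.symm hsurj hw

include hφ in
omit [Algebra.FiniteType k K] in
/-- A quotient of a linearly reductive group is linearly reductive. -/
theorem isLinearlyReductive_quotient (hG : IsLinearlyReductive k G) : IsLinearlyReductive k Q := by
  refine (Groth.Agent.S16717.result k Q inferInstance).2 fun V W cV1 cV2 cV cW1 cW2 cW f hf hsurj w hw => ?_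
  let φc : Q →ₗc[k] G := (φ : Q →ₗc[k] G)
  letI cV' : Comod k G V := comodMap φc cV
  letI cW' : Comod k G W := comodMap φc cW
  have hf' : (LinearMap.rTensor G f) ∘ₗ Comod.coact (k := k) (A := G) (V := V) =
      Comod.coact (k := k) (A := G) (V := W) ∘ₗ f := by
    refine LinearMap.ext fun v => ?_
    show f.rTensor G (φc.toLinearMap.lTensor V (cV.coact v)) = φc.toLinearMap.lTensor W (cW.coact (f v))
    rw [show cW.coact (f v) = f.rTensor Q (cV.coact v) from (LinearMap.congr_fun hf v).symm,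
      ← LinearMap.comp_apply (f := f.rTensor G), ← LinearMap.comp_apply (g := f.rTensor Q),
      LinearMap.rTensor_comp_lTensor, LinearMap.lTensor_comp_rTensor]
  have hw' : w ∈ fixedPts k G W := by
    show φc.toLinearMap.lTensor W (cW.coact w) = _
    rw [show cW.coact w = w ⊗ₜ[k] 1 from hw, LinearMap.lTensor_tmul]
    exact congrArg (fun z => w ⊗ₜ[k] z) (map_one φ)
  obtain ⟨v, hv, hvw⟩ := (Groth.Agent.S16717.result k G inferInstance).1 hG V W f hf' hsurj w hw'
  refine ⟨v, ?_, hvw⟩
  have hv' : φc.toLinearMap.lTensor V (cV.coact v) = φc.toLinearMap.lTensor V (v ⊗ₜ[k] 1) := by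
    rw [LinearMap.lTensor_tmul]
    exact (show φc.toLinearMap.lTensor V (cV.coact v) = v ⊗ₜ[k] 1 from hv).trans
      (congrArg (fun z => v ⊗ₜ[k] z) (map_one φ).symm)
  exact Module.Flat.lTensor_preserves_injective_linearMap (M := V) φc.toLinearMap hφ hv'

variable {V : Type u} [AddCommGroup V] [Module k V]

/-- The restriction of a representation to the kernel. -/
abbrev res (ψ : G →ₐc[k] K) (c : Comod k G V) : Comod k K V := comodMap (ψ : G →ₗc[k] K) c

include hφ hψ hker in
omit [Algebra.FiniteType k G] [Algebra.FiniteType k K] in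
theorem mem_fixed_iff [c : Comod k G V] (v : V) :
    v ∈ @fixedPts k K _ _ _ V _ _ (res ψ c) ↔ ∀ f : V →ₗ[k] k, ∃ q : Q, φ q = cf (A := G) f v := by
  constructor
  · intro hv f
    haveI : IsNoetherianRing Q := Algebra.FiniteType.isNoetherianRing k Q
    letI : Algebra Q G := (φ : Q →+* G).toAlgebra
    haveI : IsScalarTower k Q G := .of_algebraMap_eq fun c => ((φ : Q →ₐ[k] G).commutes c).symm
    haveI : Module.FaithfullyFlat Q G := faithfullyFlat_of_injective φ hφ
    have hT := isTorsor (φ := φ) hψ hker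
    set a := cf (A := G) f v
    have hshift : shift ψ a = a ⊗ₜ[k] (1 : K) := by
      show TensorProduct.map LinearMap.id (ψ : G →ₐ[k] K).toLinearMap (comul (R := k) a) = _
      rw [show comul (R := k) a = (cf (A := G) f).rTensor G (Comod.coact v) from sliceL_coact_comul f v]
      have hv' : (ψ : G →ₗc[k] K).toLinearMap.lTensor V (c.coact v) = v ⊗ₜ[k] 1 := hv
      rw [show a ⊗ₜ[k] (1 : K) = (cf (A := G) f).rTensor K (v ⊗ₜ[k] 1) from rfl, ← hv']
      generalize Comod.coact (k := k) (A := G) v = t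
      induction t using TensorProduct.induction_on with
      | zero => simp
      | add p p' hp hp' => simp only [map_add, hp, hp']
      | tmul p p' => simp
    have key : a ⊗ₜ[Q] (1 : G) = (1 : G) ⊗ₜ[Q] a := by
      have h := includeRight_mul_transl (k := k) (C := Q) a
      rw [AlgHom.convMul_apply] at h
      have h2 : Algebra.TensorProduct.lift (Algebra.TensorProduct.includeRight : G →ₐ[Q] G ⊗[Q] G) (tau hT)
          (fun _ _ => Commute.all _ _) (shift ψ a) = a ⊗ₜ[Q] (1 : G) := by
        refine Eq.trans ?_ h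
        show Algebra.TensorProduct.lift _ _ _ (Algebra.TensorProduct.map (AlgHom.id k G) (ψ : G →ₐ[k] K)
          (comul (R := k) a)) = _
        generalize comul (R := k) a = t
        induction t using TensorProduct.induction_on with
        | zero => simp
        | add p p' hp hp' => simp only [map_add, hp, hp']
        | tmul p p' => simp [tau_psi hT]
      rw [hshift] at h2
      rw [← h2]
      simp
    let M : Submodule Q G := LinearMap.range (Algebra.linearMap Q G)
    have h3 := congrArg (M.mkQ.lTensor G) key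
    rw [LinearMap.lTensor_tmul, LinearMap.lTensor_tmul] at h3
    have h1 : M.mkQ (1 : G) = 0 := (Submodule.Quotient.mk_eq_zero M).2 ⟨1, map_one (algebraMap Q G)⟩
    rw [h1, TensorProduct.tmul_zero] at h3
    have h4 : M.mkQ a = 0 := Module.FaithfullyFlat.tensorProduct_mk_injective (A := Q) (B := G) (G ⧸ M)
      (show TensorProduct.mk Q G (G ⧸ M) 1 (M.mkQ a) = TensorProduct.mk Q G (G ⧸ M) 1 0 by
        rw [map_zero]; exact h3.symm)
    obtain ⟨q, hq⟩ := (Submodule.Quotient.mk_eq_zero M).1 h4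
    exact ⟨q, hq⟩
  · intro h
    show (ψ : G →ₗc[k] K).toLinearMap.lTensor V (c.coact v) = v ⊗ₜ[k] 1
    refine eq_of_forall_sliceL_eq fun f => ?_
    obtain ⟨q, hq⟩ := h f
    rw [sliceL_lTensor, sliceL_tmul]
    show ψ (cf (A := G) f v) = f v • (1 : K)
    have hc := counit_cf (A := G) f v
    rw [← hq, CoalgHomClass.counit_comp_apply φ q] at hc
    rw [← hq, psi_phi hker, hc, Algebra.algebraMap_eq_smul_one]

omit [Algebra.FiniteType k Q] [Algebra.FiniteType k G] [Algebra.FiniteType k K] in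
theorem apply_hit [Comod k G V] (f : V →ₗ[k] k) (F : G →ₗ[k] k) (v : V) :
    f (hit F v) = F (cf (A := G) f v) := by
  rw [hit_apply, cf_apply]
  generalize Comod.coact (k := k) (A := G) v = t
  induction t using TensorProduct.induction_on with
  | zero => simp
  | add p p' hp hp' => simp only [map_add, hp, hp']
  | tmul p p' => simp [mul_comm]

omit [Algebra.FiniteType k Q] [Algebra.FiniteType k G] [Algebra.FiniteType k K] in
theorem hit_congr_of_range [Comod k G V] {v : V} (hv : ∀ f : V →ₗ[k] k, ∃ q : Q, φ q = cf (A := G) f v)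
    {F F' : G →ₗ[k] k} (h : ∀ q, F (φ q) = F' (φ q)) : hit F v = hit F' v := by
  refine sub_eq_zero.1 ((Module.forall_dual_apply_eq_zero_iff k _).1 fun f => ?_)
  obtain ⟨q, hq⟩ := hv f
  rw [map_sub, apply_hit, apply_hit, ← hq, h, sub_self]

omit [Algebra.FiniteType k Q] [Algebra.FiniteType k G] [Algebra.FiniteType k K] in
theorem hit_mem_range [Comod k G V] {v : V} (hv : ∀ f : V →ₗ[k] k, ∃ q : Q, φ q = cf (A := G) f v)
    (F : G →ₗ[k] k) (f : V →ₗ[k] k) : ∃ q : Q, φ q = cf (A := G) f (hit F v) := by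
  obtain ⟨q, hq⟩ := hv f
  refine ⟨hit (V := Q) (F ∘ₗ (φ : Q →ₗ[k] G)) q, ?_⟩
  rw [map_hit φ F q, hq, hit_regular]
  exact sliceR_comul_cf F f v

include hφ hψ hker in
/-- An extension of linearly reductive groups is linearly reductive. -/
theorem isLinearlyReductive_extension (hK : IsLinearlyReductive k K) (hQ : IsLinearlyReductive k Q) :
    IsLinearlyReductive k G := by
  refine (Groth.Agent.S16717.result k G inferInstance).2 fun V W _ _ cV _ _ cW f hf hsurj w hw => ?_
  obtain ⟨π, hπ⟩ := (φ : Q →ₐ[k] G).toLinearMap.exists_leftInverse_of_injective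
    (LinearMap.ker_eq_bot.2 hφ)
  have hπ' : ∀ q, π (φ q) = q := fun q => LinearMap.congr_fun hπ q
  let mk : ∀ (U : Type u) [AddCommGroup U] [Module k U] [c : Comod k G U] (P : Submodule k U),
      (∀ v ∈ P, ∀ F : G →ₗ[k] k, hit F v ∈ P) →
      (∀ v ∈ P, ∀ f : U →ₗ[k] k, ∃ q : Q, φ q = cf (A := G) f v) → Comod k Q P :=
    fun U _ _ c P hP hP' =>
      letI cP : Comod k G P := ComodSub.Comod.restr c P (isSubcomod_iff_hit.2 fun F v hv => hP v hv F)
      comodOfHit (π.lTensor P ∘ₗ cP.coact)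
        (fun v => by
          rw [LinearMap.comp_apply, sliceR_lTensor_comp]
          show hit _ v = v
          refine Subtype.ext ?_
          rw [hit_restr, Submodule.subtype_apply, hit_congr_of_range (φ := φ) (hP' _ v.2)
            (F' := counit (R := k)) (fun q => by
              rw [LinearMap.comp_apply, hπ', CoalgHomClass.counit_comp_apply φ q]), hit_counit])
        (fun g h v => by
          simp only [LinearMap.comp_apply, sliceR_lTensor_comp]
          show hit (g ∘ₗ π) (hit (h ∘ₗ π) v) = hit (formMul g h ∘ₗ π) v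
          rw [hit_hit]
          refine Subtype.ext ?_
          rw [hit_restr, hit_restr]
          refine hit_congr_of_range (φ := φ) (hP' _ v.2) fun q => ?_
          rw [LinearMap.comp_apply, hπ', show formMul (g ∘ₗ π) (h ∘ₗ π) (φ q) =
            formMul ((g ∘ₗ π) ∘ₗ (φ : Q →ₗc[k] G).toLinearMap) ((h ∘ₗ π) ∘ₗ (φ : Q →ₗc[k] G).toLinearMap) q from
              formMul_comp (φ : Q →ₗc[k] G) _ _ q]
          congr 2 <;> exact LinearMap.ext fun x => by simp [hπ'])
  let PV := @fixedPts k K _ _ _ V _ _ (res ψ cV)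
  let PW := @fixedPts k K _ _ _ W _ _ (res ψ cW)
  have hPV : ∀ v ∈ PV, ∀ g : V →ₗ[k] k, ∃ q : Q, φ q = cf (A := G) g v := fun v hv =>
    (mem_fixed_iff hφ hψ hker v).1 hv
  have hPW : ∀ v ∈ PW, ∀ g : W →ₗ[k] k, ∃ q : Q, φ q = cf (A := G) g v := fun v hv =>
    (mem_fixed_iff hφ hψ hker v).1 hv
  have hPV' : ∀ v ∈ PV, ∀ F : G →ₗ[k] k, hit F v ∈ PV := fun v hv F =>
    (mem_fixed_iff hφ hψ hker _).2 (hit_mem_range (hPV v hv) F)
  have hPW' : ∀ v ∈ PW, ∀ F : G →ₗ[k] k, hit F v ∈ PW := fun v hv F =>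
    (mem_fixed_iff hφ hψ hker _).2 (hit_mem_range (hPW v hv) F)
  have hfG : Hoch.IsComodHom G f := hf.symm
  have hfK : @LinearMap.rTensor k _ K V W _ _ _ _ _ _ f ∘ₗ (res ψ cV).coact = (res ψ cW).coact ∘ₗ f := by
    refine LinearMap.ext fun v => ?_
    show f.rTensor K ((ψ : G →ₗc[k] K).toLinearMap.lTensor V (cV.coact v)) =
      (ψ : G →ₗc[k] K).toLinearMap.lTensor W (cW.coact (f v))
    rw [show cW.coact (f v) = f.rTensor G (cV.coact v) from IsComodHom.coact_apply hfG v,
      ← LinearMap.comp_apply (f := f.rTensor K), ← LinearMap.comp_apply (g := f.rTensor G),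
      LinearMap.rTensor_comp_lTensor, LinearMap.lTensor_comp_rTensor]
  have hmap : ∀ v ∈ PV, f v ∈ PW := fun v hv => by
    show (res ψ cW).coact (f v) = f v ⊗ₜ[k] (1 : K)
    rw [← LinearMap.comp_apply, ← hfK, LinearMap.comp_apply,
      show (res ψ cV).coact v = v ⊗ₜ[k] (1 : K) from hv, LinearMap.rTensor_tmul]
  let f' : PV →ₗ[k] PW := f.restrict hmap
  have hf'surj : Function.Surjective f' := fun y => by
    obtain ⟨v, hv, hvy⟩ := @(Groth.Agent.S16717.result k K inferInstance).1 hK V W _ _ (res ψ cV) _ _ (res ψ cW) f hfK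
      hsurj y.1 y.2
    exact ⟨⟨v, hv⟩, Subtype.ext hvy⟩
  letI cGV : Comod k G PV :=
    ComodSub.Comod.restr cV PV (isSubcomod_iff_hit.2 fun F v hv => hPV' v hv F)
  letI cGW : Comod k G PW :=
    ComodSub.Comod.restr cW PW (isSubcomod_iff_hit.2 fun F v hv => hPW' v hv F)
  letI cQV : Comod k Q PV := mk V PV hPV' hPV
  letI cQW : Comod k Q PW := mk W PW hPW' hPW
  have hhitV : ∀ (g : Q →ₗ[k] k) (v : PV), ((hit g v : PV) : V) = hit (g ∘ₗ π) (v : V) := fun g v =>
    (congrArg Subtype.val (sliceR_lTensor_comp π g (cGV.coact v))).trans (hit_restr _ _ v)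
  have hhitW : ∀ (g : Q →ₗ[k] k) (v : PW), ((hit g v : PW) : W) = hit (g ∘ₗ π) (v : W) := fun g v =>
    (congrArg Subtype.val (sliceR_lTensor_comp π g (cGW.coact v))).trans (hit_restr _ _ v)
  have hf'Q : Hoch.IsComodHom Q f' := isComodHom_iff_hit.2 fun g v => Subtype.ext (by
    rw [hhitW]
    show f ((hit g v : PV) : V) = _
    rw [hhitV, IsComodHom.hit_apply hfG]
    rfl)
  have hwK : w ∈ PW := by
    show (ψ : G →ₗc[k] K).toLinearMap.lTensor W (cW.coact w) = _
    rw [show cW.coact w = w ⊗ₜ[k] 1 from hw, LinearMap.lTensor_tmul]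
    exact congrArg (fun z => w ⊗ₜ[k] z) (map_one ψ)
  have hwQ : (⟨w, hwK⟩ : PW) ∈ fixedPts k Q PW := eq_of_forall_sliceR_eq fun g => Subtype.ext (by
    rw [show sliceR g (Comod.coact (k := k) (A := Q) (⟨w, hwK⟩ : PW)) = hit g (⟨w, hwK⟩ : PW) from rfl, hhitW,
      hit_apply, show cW.coact w = w ⊗ₜ[k] 1 from hw, sliceR_tmul, sliceR_tmul, Submodule.coe_smul,
      LinearMap.comp_apply, show π (1 : G) = 1 from (congrArg π (map_one φ).symm).trans (hπ' 1)])
  obtain ⟨v, hv, hvw⟩ := (Groth.Agent.S16717.result k Q inferInstance).1 hQ PV PW f' hf'Q.symm hf'surj ⟨w, hwK⟩ hwQ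
  refine ⟨(v : V), ?_, congrArg Subtype.val hvw⟩
  refine eq_of_forall_sliceR_eq fun F => ?_
  rw [sliceR_tmul]
  show hit F (v : V) = F 1 • (v : V)
  rw [hit_congr_of_range (φ := φ) (hPV _ v.2) (F' := (F ∘ₗ (φ : Q →ₐ[k] G).toLinearMap) ∘ₗ π) (fun q => by
    simp [hπ']), ← hhitV, hit_apply, show Comod.coact (k := k) (A := Q) v = v ⊗ₜ[k] 1 from hv, sliceR_tmul,
    Submodule.coe_smul]
  simp

end Directions

end Groth.Agent.CohDer1.LinRedExt
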